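import Cfsg.Agent.H87.PSp43.Defs

/-!
# The `3`-amalgam of `PSp4(3)`: interfaces between the local steps

`NineCfg` is the situation in the centraliser of a coordinate element modulo that element, `CentCfg`
the situation in the centraliser of the central involution of a parabolic subgroup.
-/

set_option autoImplicit false

namespace H36.Amalgam43

open H87.U43 (SL2 sZ)

variable {G : Type*} [Group G]

/-- A subgroup `T = ⟨u, s⟩` of order 9 with `H = N(T) = ⟨u, z⟩ × ⟨s, z * w⟩` of order 36. -/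
structure NineCfg (H T : Subgroup G) (u s z w : G) : Prop where
  u_cube : u ^ 3 = 1
  s_cube : s ^ 3 = 1
  us : u * s = s * u
  z_sq : z * z = 1
  w_sq : w * w = 1
  zw : z * w = w * z
  z_u : z * u * z⁻¹ = u⁻¹
  z_s : z * s * z⁻¹ = s
  w_u : w * u * w⁻¹ = u⁻¹
  w_s : w * s * w⁻¹ = s⁻¹
  T_eq : T = Subgroup.closure {u, s}
  card_T : Nat.card T = 9
  card_H : Nat.card H = 36
  z_mem : z ∈ H
  w_mem : w ∈ H
  norm : Subgroup.normalizer (T : Set G) = H
  cent : ∀ t ∈ T, t ≠ 1 → Subgroup.centralizer ({t} : Set G) ≤ H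
  sig : ∀ K : Subgroup G, (Nat.card K).Coprime 3 → T ≤ Subgroup.normalizer (K : Set G) → K = ⊥

/-- The centraliser of `σ`: `a` and `w * a * w` generate an elementary group of order 9, `L` is the
part `SL(2,3)` of the centraliser of `⟨a, σ⟩`. -/
structure CentCfg (σ a w : G) (L : SL2 →* G) : Prop where
  w_sq : w * w = 1
  w_σ : w * σ = σ * w
  a_cube : a ^ 3 = 1
  a_ne : a ≠ 1
  a_comm : a * (w * a * w) = w * a * w * a
  not_real : ∀ g : G, g * a * g⁻¹ ≠ a⁻¹
  L_inj : Function.Injective L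
  L_sZ : L sZ = σ
  L_cent : ∀ x : SL2, L x * a = a * L x
  L_mem : ∃ x : SL2, L x = w * a * w
  cent_a : ∀ g : G, g * σ = σ * g → g * a = a * g → ∃ i : ℕ, ∃ x : SL2, g = a ^ i * L x
  card_d : Nat.card (Subgroup.centralizer ({σ, a * (w * a * w)⁻¹} : Set G)) = 18
  card_c : Nat.card (Subgroup.centralizer ({σ, a * (w * a * w)} : Set G)) = 36

end H36.Amalgam43
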